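import Groth.Prelude.Def_KRR
import Groth.Agent.Lib.DPerf.Noeth
import Groth.Agent.Lib.RHom.PCoh
import Groth.Agent.S3200
import Mathlib.Algebra.Homology.Augment

/-! Coherent modules of bounded stalkwise projective dimension and finite locally free resolutions. -/

set_option autoImplicit false
set_option linter.unusedSectionVars false
set_option linter.style.haveILetI false
set_option backward.isDefEq.respectTransparency false
set_option backward.isDefEq.respectTransparency.types false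

universe u

open CategoryTheory CategoryTheory.Limits AlgebraicGeometry

namespace Groth.Agent.LFResK5

open KFlat.Sch

variable {X : Scheme.{u}}

/-- All stalks have projective dimension `< n`. -/
def PLT (M : X.Modules) (n : ℕ) : Prop := ∀ x : X, HasProjectiveDimensionLT ((stF x).obj M) n

/-- Coherent of bounded stalkwise projective dimension. -/
def Bd (M : X.Modules) : Prop := Coh.IsCoh M ∧ ∃ n, PLT M n

theorem PLT.mono {M : X.Modules} {n m : ℕ} (h : PLT M n) (hnm : n ≤ m) : PLT M m :=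
  fun x => have := h x; hasProjectiveDimensionLT_of_ge _ n m hnm

theorem PLT.iso {M N : X.Modules} (e : M ≅ N) {n : ℕ} (h : PLT M n) : PLT N n :=
  fun x => have := h x; hasProjectiveDimensionLT_of_iso ((stF x).mapIso e) n

theorem PLT.X₂ {S : ShortComplex X.Modules} (hS : S.ShortExact) {n : ℕ} (h₁ : PLT S.X₁ n) (h₃ : PLT S.X₃ n) :
    PLT S.X₂ n :=
  fun x => (DPerf.shortExact_stF hS x).hasProjectiveDimensionLT_X₂ n (h₁ x) (h₃ x)

theorem PLT.X₁ {S : ShortComplex X.Modules} (hS : S.ShortExact) {n : ℕ} (h₂ : PLT S.X₂ n) (h₃ : PLT S.X₃ (n + 1)) :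
    PLT S.X₁ n :=
  fun x => (DPerf.shortExact_stF hS x).hasProjectiveDimensionLT_X₁ n (h₂ x) (h₃ x)

theorem PLT.X₃ {S : ShortComplex X.Modules} (hS : S.ShortExact) {n : ℕ} (h₁ : PLT S.X₁ n) (h₂ : PLT S.X₂ (n + 1)) :
    PLT S.X₃ (n + 1) :=
  fun x => (DPerf.shortExact_stF hS x).hasProjectiveDimensionLT_X₃ n (h₁ x) (h₂ x)

theorem plt_of_isZero {M : X.Modules} (h : IsZero M) (n : ℕ) : PLT M n := fun x => by
  have := (hasProjectiveDimensionLT_zero_iff_isZero _).2 ((stF x).map_isZero h)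
  exact hasProjectiveDimensionLT_of_ge _ 0 n (Nat.zero_le n)

theorem projective_stF {E : X.Modules} (hE : FlatMod.IsFinLocFree E) (x : X) : Projective ((stF x).obj E) := by
  have : Module.Free (X.presheaf.stalk x) (E.presheaf.stalk x) := ((M1.isFinLocFree_iff E).1 hE).2 x
  exact (IsProjective.iff_projective (R := X.presheaf.stalk x) _).1
    (Module.Projective.of_free (P := E.presheaf.stalk x))

theorem plt_of_isFinLocFree {E : X.Modules} (hE : FlatMod.IsFinLocFree E) {n : ℕ} (hn : 1 ≤ n) : PLT E n :=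
  PLT.mono (fun x => projective_iff_hasProjectiveDimensionLT_one.1 (projective_stF hE x)) hn

theorem isCoh_of_isFinLocFree [IsLocallyNoetherian X] {E : X.Modules} (hE : FlatMod.IsFinLocFree E) : Coh.IsCoh E :=
  (M1.isCoh_iff_isFP E).2 (M1.isFP_of_isFinLocFree hE)

theorem free_of_plt_one [IsLocallyNoetherian X] {M : X.Modules} (hM : Coh.IsCoh M) (x : X)
    (h : HasProjectiveDimensionLT ((stF x).obj M) 1) : Module.Free (X.presheaf.stalk x) (M.presheaf.stalk x) := by
  have hP : Projective ((stF x).obj M) := projective_iff_hasProjectiveDimensionLT_one.2 h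
  have : Module.Projective (X.presheaf.stalk x) (M.presheaf.stalk x) :=
    (IsProjective.iff_projective (R := X.presheaf.stalk x) _).2 hP
  have := M1.finite_stalk hM.1 hM.2 x
  have : Module.Flat (X.presheaf.stalk x) (M.presheaf.stalk x) := Module.Flat.of_projective
  exact Module.free_of_flat_of_isLocalRing

theorem isFinLocFree_of_plt_one [IsLocallyNoetherian X] {M : X.Modules} (hM : Coh.IsCoh M) (h : PLT M 1) :
    FlatMod.IsFinLocFree M :=
  (M1.isFinLocFree_iff M).2 ⟨(M1.isCoh_iff_isFP M).1 hM, fun x => free_of_plt_one hM x (h x)⟩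

theorem Bd.iso [IsLocallyNoetherian X] {M N : X.Modules} (e : M ≅ N) (h : Bd M) : Bd N :=
  ⟨⟨M1.isQCoh_of_isIso e h.1.1, M1.isFT_of_isIso e h.1.2⟩, h.2.imp fun _ => PLT.iso e⟩

theorem bd_of_isFinLocFree [IsLocallyNoetherian X] {E : X.Modules} (hE : FlatMod.IsFinLocFree E) : Bd E :=
  ⟨isCoh_of_isFinLocFree hE, 1, plt_of_isFinLocFree hE le_rfl⟩

theorem Bd.ext [IsLocallyNoetherian X] {S : ShortComplex X.Modules} (hS : S.ShortExact) :
    Bd S.X₁ → Bd S.X₃ → Bd S.X₂ := by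
  rintro ⟨h₁, n, hn⟩ ⟨h₃, m, hm⟩
  exact ⟨RHom.isCoh_of_shortExact hS h₁ h₃, max n m,
    PLT.X₂ hS (hn.mono (le_max_left n m)) (hm.mono (le_max_right n m))⟩

theorem isCoh_X₁ [IsLocallyNoetherian X] {S : ShortComplex X.Modules} (hS : S.ShortExact)
    (h₂ : Coh.IsCoh S.X₂) (h₃ : Coh.IsCoh S.X₃) : Coh.IsCoh S.X₁ := by
  have := hS.mono_f
  have h := M1.isCoh_kernel h₂ h₃.1 S.g
  let e : kernel S.g ≅ S.X₁ := (kernelIsKernel S.g).conePointUniqueUpToIso hS.exact.fIsKernel
  exact ⟨M1.isQCoh_of_isIso e h.1, M1.isFT_of_isIso e h.2⟩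

theorem Bd.ker [IsLocallyNoetherian X] {S : ShortComplex X.Modules} (hS : S.ShortExact) :
    Bd S.X₂ → Bd S.X₃ → Bd S.X₁ := by
  rintro ⟨h₂, n, hn⟩ ⟨h₃, m, hm⟩
  exact ⟨isCoh_X₁ hS h₂ h₃, max n m,
    PLT.X₁ hS (hn.mono (le_max_left n m)) (hm.mono (Nat.le_succ_of_le (le_max_right n m)))⟩

theorem isFinLocFree_ext [IsLocallyNoetherian X] {S : ShortComplex X.Modules} (hS : S.ShortExact)
    (h₁ : FlatMod.IsFinLocFree S.X₁) (h₃ : FlatMod.IsFinLocFree S.X₃) : FlatMod.IsFinLocFree S.X₂ :=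
  isFinLocFree_of_plt_one (RHom.isCoh_of_shortExact hS (isCoh_of_isFinLocFree h₁) (isCoh_of_isFinLocFree h₃))
    (PLT.X₂ hS (plt_of_isFinLocFree h₁ le_rfl) (plt_of_isFinLocFree h₃ le_rfl))

theorem kerSES {M E : X.Modules} (p : E ⟶ M) [Epi p] :
    (ShortComplex.mk (kernel.ι p) p (kernel.condition p)).ShortExact where
  exact := ShortComplex.exact_kernel p

theorem isCoh_biprod [IsLocallyNoetherian X] {A B : X.Modules} (hA : Coh.IsCoh A) (hB : Coh.IsCoh B) :
    Coh.IsCoh (A ⊞ B) :=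
  RHom.isCoh_of_shortExact (ShortComplex.Splitting.ofHasBinaryBiproduct A B).shortExact hA hB

theorem cover [IsLocallyNoetherian X] (hX : KRR.HasEnoughLocFree X) {A B D : X.Modules} (u : A ⟶ B) (v : D ⟶ B)
    [Epi u] (hA : Coh.IsCoh A) (hB : Coh.IsCoh B) (hD : Coh.IsCoh D) :
    ∃ (L : X.Modules) (u' : L ⟶ D) (v' : L ⟶ A), FlatMod.IsFinLocFree L ∧ Epi u' ∧ u' ≫ v = v' ≫ u := by
  have hk := M1.isCoh_kernel (isCoh_biprod hA hD) hB.1 (biprod.desc u (-v))
  let e : kernel (biprod.desc u (-v)) ≅ pullback u v := (kernelIsKernel _).conePointUniqueUpToIso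
    (Abelian.PullbackToBiproductIsKernel.isLimitPullbackToBiproduct u v)
  obtain ⟨L, p, hL, hp⟩ := hX (pullback u v) ⟨M1.isQCoh_of_isIso e hk.1, M1.isFT_of_isIso e hk.2⟩
  exact ⟨L, p ≫ pullback.snd u v, p ≫ pullback.fst u v, hL, epi_comp _ _, by simp [pullback.condition]⟩

/-- The short exact sequence of cycles. -/
theorem cyclesSES (L : ChainComplex X.Modules ℕ) (k : ℕ) (hk : L.ExactAt k) :
    ∃ S : ShortComplex X.Modules, S.ShortExact ∧ S.X₁ = L.cycles (k + 1) ∧ S.X₂ = L.X (k + 1) ∧ S.X₃ = L.cycles k := by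
  have hex : (ShortComplex.mk (L.toCycles (k + 1) k) (L.homologyπ k) (L.toCycles_comp_homologyπ (k + 1) k)).Exact :=
    ShortComplex.exact_of_g_is_cokernel _ (L.homologyIsCokernel (k + 1) k (by simp))
  have : Epi (L.toCycles (k + 1) k) :=
    (ShortComplex.exact_iff_epi _ (((L.exactAt_iff_isZero_homology k).1 hk).eq_of_tgt _ _)).1 hex
  refine ⟨ShortComplex.mk (L.iCycles (k + 1)) (L.toCycles (k + 1) k)
    (by rw [← cancel_mono (L.iCycles k), Category.assoc, L.toCycles_i, L.iCycles_d, zero_comp]), { exact := ?_ }, rfl, rfl, rfl⟩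
  refine ShortComplex.exact_of_f_is_kernel _ (KernelFork.IsLimit.ofι' _ _ fun {T} g hg =>
    ⟨L.liftCycles g k (by simp) ?_, L.liftCycles_i _ _ _ _⟩)
  rw [← L.toCycles_i (k + 1) k, ← Category.assoc]
  exact (congrArg (· ≫ L.iCycles k) hg).trans zero_comp

/-- The short exact sequences in degree zero. -/
theorem zeroSES (L : ChainComplex X.Modules ℕ) :
    ∃ (B : X.Modules) (S T : ShortComplex X.Modules), S.ShortExact ∧ T.ShortExact ∧
      S.X₁ = L.cycles 1 ∧ S.X₂ = L.X 1 ∧ S.X₃ = B ∧ T.X₁ = B ∧ T.X₂ = L.cycles 0 ∧ T.X₃ = L.homology 0 := by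
  let q : L.X 1 ⟶ kernel (L.homologyπ 0) := kernel.lift _ (L.toCycles 1 0) (L.toCycles_comp_homologyπ 1 0)
  have hex : (ShortComplex.mk (L.toCycles 1 0) (L.homologyπ 0) (L.toCycles_comp_homologyπ 1 0)).Exact :=
    ShortComplex.exact_of_g_is_cokernel _ (L.homologyIsCokernel 1 0 (by simp))
  have : Epi q := (ShortComplex.exact_iff_epi_kernel_lift _).1 hex
  have w : L.iCycles 1 ≫ q = 0 := by
    rw [← cancel_mono (kernel.ι (L.homologyπ 0)), ← cancel_mono (L.iCycles 0)]
    simp [q]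
  refine ⟨_, ShortComplex.mk (L.iCycles 1) q w,
    ShortComplex.mk (kernel.ι (L.homologyπ 0)) (L.homologyπ 0) (kernel.condition _), { exact := ?_ }, kerSES _,
    rfl, rfl, rfl, rfl, rfl, rfl⟩
  refine ShortComplex.exact_of_f_is_kernel _ (KernelFork.IsLimit.ofι' _ _ fun {T} g hg =>
    ⟨L.liftCycles g 0 (by simp) ?_, L.liftCycles_i _ _ _ _⟩)
  have h0 : g ≫ q ≫ kernel.ι (L.homologyπ 0) ≫ L.iCycles 0 = 0 := by
    rw [← Category.assoc, show g ≫ q = 0 from hg, zero_comp]
  simpa [q] using h0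

theorem isCoh_cycles [IsLocallyNoetherian X] (L : ChainComplex X.Modules ℕ) (hL : ∀ i, FlatMod.IsFinLocFree (L.X i))
    (i j : ℕ) (hij : (ComplexShape.down ℕ).next i = j) : Coh.IsCoh (L.cycles i) := by
  have hk := M1.isCoh_kernel (isCoh_of_isFinLocFree (hL i)) (isCoh_of_isFinLocFree (hL j)).1 (L.d i j)
  let e : kernel (L.d i j) ≅ L.cycles i :=
    (kernelIsKernel (L.d i j)).conePointUniqueUpToIso (L.cyclesIsKernel i j hij)
  exact ⟨M1.isQCoh_of_isIso e hk.1, M1.isFT_of_isIso e hk.2⟩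

theorem plt_cycles_zero (L : ChainComplex X.Modules ℕ) (h : PLT (L.X 0) 1) : PLT (L.cycles 0) 1 := by
  have : IsIso (L.iCycles 0) := L.isIso_iCycles 0 0 (by simp) (L.shape _ _ (by simp))
  exact h.iso (asIso (L.iCycles 0)).symm

/-- Syzygies of a module of bounded projective dimension are eventually locally free. -/
theorem plt_cycles [IsLocallyNoetherian X] (L : ChainComplex X.Modules ℕ) (hL : ∀ i, FlatMod.IsFinLocFree (L.X i))
    (hex : ∀ i, 1 ≤ i → L.ExactAt i) {n : ℕ} (h : PLT (L.homology 0) n) :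
    FlatMod.IsFinLocFree (L.cycles (n + 1)) := by
  obtain ⟨B, S, T, hS, hT, e₁, e₂, e₃, f₁, f₂, f₃⟩ := zeroSES L
  have hB : PLT B (max (n - 1) 1) := f₁ ▸ PLT.X₁ hT
    (f₂.symm ▸ (plt_cycles_zero L (plt_of_isFinLocFree (hL 0) le_rfl)).mono (le_max_right _ _))
    (f₃.symm ▸ h.mono (by omega))
  have key : ∀ k, PLT (L.cycles (k + 1)) (max (n - (k + 2)) 1) := by
    intro k
    induction k with
    | zero =>
      rw [zero_add, ← e₁]
      exact PLT.X₁ hS (by rw [e₂]; exact plt_of_isFinLocFree (hL 1) (le_max_right _ _))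
        (by rw [e₃]; exact hB.mono (by omega))
    | succ k ih =>
      obtain ⟨U, hU, g₁, g₂, g₃⟩ := cyclesSES L (k + 1) (hex _ (by omega))
      rw [← g₁]
      exact PLT.X₁ hU (by rw [g₂]; exact plt_of_isFinLocFree (hL _) (le_max_right _ _))
        (by rw [g₃]; exact ih.mono (by omega))
  exact isFinLocFree_of_plt_one (isCoh_cycles L hL (n + 1) n (by simp)) ((key n).mono (by omega))

theorem bd_of_hasLFRes [IsLocallyNoetherian X] {F : X.Modules} (hF : Coh.IsCoh F) (h : KRR.HasLFRes F) : Bd F := by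
  obtain ⟨n, L, π, hL, hz, hq⟩ := h
  refine ⟨hF, n + 3, ?_⟩
  have hex : ∀ i, 1 ≤ i → L.ExactAt i := by
    intro i hi
    obtain ⟨k, rfl⟩ : ∃ k, i = k + 1 := ⟨i - 1, by omega⟩
    rw [← quasiIsoAt_iff_exactAt' π (k + 1) (ChainComplex.exactAt_succ_single_obj _ _)]
    infer_instance
  have key : ∀ j k, n < k + j + 1 → PLT (L.cycles (k + 1)) (j + 1) := by
    intro j
    induction j with
    | zero =>
      intro k hk
      exact plt_of_isZero (IsZero.of_mono (L.iCycles (k + 1)) (hz _ (by omega))) _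
    | succ j ih =>
      intro k hk
      obtain ⟨U, hU, g₁, g₂, g₃⟩ := cyclesSES L (k + 1) (hex _ (by omega))
      exact g₃ ▸ PLT.X₃ hU (g₁.symm ▸ ih (k + 1) (by omega)) (g₂.symm ▸ plt_of_isFinLocFree (hL _) (by omega))
  obtain ⟨B, S, T, hS, hT, e₁, e₂, e₃, f₁, f₂, f₃⟩ := zeroSES L
  have hB : PLT B (n + 2) := e₃ ▸ PLT.X₃ hS (e₁.symm ▸ key n 0 (by omega)) (e₂.symm ▸ plt_of_isFinLocFree (hL _) (by omega))
  have hH : PLT (L.homology 0) (n + 3) := f₃ ▸ PLT.X₃ hT (f₁.symm ▸ hB)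
    (f₂.symm ▸ (plt_cycles_zero L (plt_of_isFinLocFree (hL 0) le_rfl)).mono (by omega))
  exact hH.iso (asIso (HomologicalComplex.homologyMap π 0) ≪≫
    HomologicalComplex.singleObjHomologySelfIso (ComplexShape.down ℕ) 0 F)

theorem hasLFRes_of_plt [IsLocallyNoetherian X] (hX : KRR.HasEnoughLocFree X) :
    ∀ (n : ℕ) (M : X.Modules), Coh.IsCoh M → PLT M (n + 1) → KRR.HasLFRes M
  | 0, M, hM, h => ⟨0, (ChainComplex.single₀ X.Modules).obj M, 𝟙 _, ⟨fun i => by
      rcases i with _ | i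
      · exact isFinLocFree_of_plt_one hM h
      · exact isFinLocFree_of_isZero (HomologicalComplex.isZero_single_obj_X _ _ _ _ (by simp)),
      fun i hi => HomologicalComplex.isZero_single_obj_X _ _ _ _ (by omega), inferInstance⟩⟩
  | n + 1, M, hM, h => by
    obtain ⟨E, p, hE, hp⟩ := hX M hM
    have hS := kerSES p
    obtain ⟨m, L, π, hL, hz, hq⟩ := hasLFRes_of_plt hX n (kernel p) (isCoh_X₁ hS (isCoh_of_isFinLocFree hE) hM)
      (PLT.X₁ hS (plt_of_isFinLocFree hE (by omega)) h)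
    let f : L.X 0 ⟶ kernel p := π.f 0
    have hf : L.d 1 0 ≫ f = 0 := ((ChainComplex.toSingle₀Equiv L (kernel p)) π).2
    have h0 : (ShortComplex.mk (L.d 1 0) f hf).Exact ∧ Epi f := by
      have hqi : QuasiIsoAt π 0 := inferInstance
      rw [ChainComplex.quasiIsoAt₀_iff, ShortComplex.quasiIso_iff_of_zeros'] at hqi
      · refine (ShortComplex.exact_and_epi_g_iff_of_iso ?_).1 hqi
        exact ShortComplex.isoMk (Iso.refl _) (Iso.refl _) (Iso.refl _) (by simp) (by simp [f])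
      all_goals simp
    have hex : ∀ k, L.ExactAt (k + 1) := fun k => by
      rw [← quasiIsoAt_iff_exactAt' π (k + 1) (ChainComplex.exactAt_succ_single_obj _ _)]
      infer_instance
    let L' : ChainComplex X.Modules ℕ := ChainComplex.augment L (f ≫ kernel.ι p) (by rw [← Category.assoc, hf, zero_comp])
    let π' : L' ⟶ (ChainComplex.single₀ X.Modules).obj M := (ChainComplex.toSingle₀Equiv _ _).symm
      ⟨p, by simp [L']⟩
    refine ⟨m + 1, L', π', fun i => ?_, fun i hi => ?_, ⟨fun i => ?_⟩⟩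
    · rcases i with _ | i
      · exact hE
      · exact hL i
    · obtain ⟨k, rfl⟩ : ∃ k, i = k + 1 := ⟨i - 1, by omega⟩
      exact hz k (by omega)
    · have := h0.2
      rcases i with _ | k
      · rw [ChainComplex.quasiIsoAt₀_iff, ShortComplex.quasiIso_iff_of_zeros']
        · have w : (f ≫ kernel.ι p) ≫ p = 0 := by simp
          refine (ShortComplex.exact_and_epi_g_iff_of_iso ?_).2
            (⟨?_, hp⟩ : (ShortComplex.mk (f ≫ kernel.ι p) p w).Exact ∧ Epi p)
          · exact ShortComplex.isoMk (Iso.refl _) (Iso.refl _) (Iso.refl _) (by simp [L']) (by simp [π'])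
          · let φ : ShortComplex.mk (f ≫ kernel.ι p) p w ⟶ ShortComplex.mk (kernel.ι p) p (kernel.condition p) :=
              { τ₁ := f, τ₂ := 𝟙 _, τ₃ := 𝟙 _ }
            haveI : Epi φ.τ₁ := h0.2
            haveI : IsIso φ.τ₂ := by dsimp [φ]; infer_instance
            haveI : Mono φ.τ₃ := by dsimp [φ]; infer_instance
            exact (ShortComplex.exact_iff_of_epi_of_isIso_of_mono φ).2 hS.exact
        all_goals simp
      · rw [quasiIsoAt_iff_exactAt' π' (k + 1) (ChainComplex.exactAt_succ_single_obj _ _),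
          L'.exactAt_iff' (k + 2) (k + 1) k (by simp) (by simp)]
        rcases k with _ | j
        · have w : L.d 1 0 ≫ f ≫ kernel.ι p = 0 := by rw [← Category.assoc, hf, zero_comp]
          let φ : ShortComplex.mk (L.d 1 0) f hf ⟶ ShortComplex.mk (L.d 1 0) (f ≫ kernel.ι p) w :=
            { τ₁ := 𝟙 _, τ₂ := 𝟙 _, τ₃ := kernel.ι p }
          haveI : Epi φ.τ₁ := by dsimp [φ]; infer_instance
          haveI : IsIso φ.τ₂ := by dsimp [φ]; infer_instance
          haveI : Mono φ.τ₃ := by dsimp [φ]; infer_instance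
          exact (ShortComplex.exact_iff_of_epi_of_isIso_of_mono φ).1 h0.1
        · exact (L.exactAt_iff' (j + 2) (j + 1) j (by simp) (by simp)).1 (hex j)

theorem bd_iff_hasLFRes [IsLocallyNoetherian X] (hX : KRR.HasEnoughLocFree X) (M : X.Modules) :
    Bd M ↔ Coh.IsCoh M ∧ KRR.HasLFRes M :=
  ⟨fun ⟨hM, n, hn⟩ => ⟨hM, hasLFRes_of_plt hX n M hM (hn.mono (Nat.le_succ n))⟩, fun h => bd_of_hasLFRes h.1 h.2⟩

/-- Near a point of finite projective dimension the projective dimension stays bounded. -/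
theorem exists_nhd_plt [IsLocallyNoetherian X] (hX : KRR.HasEnoughLocFree X) :
    ∀ (d : ℕ) (M : X.Modules), Coh.IsCoh M → ∀ x : X, HasProjectiveDimensionLT ((stF x).obj M) (d + 1) →
      ∃ U : X.Opens, x ∈ U ∧ ∀ y : X, y ∈ U → HasProjectiveDimensionLT ((stF y).obj M) (d + 1)
  | 0, M, hM, x, h => by
    haveI := free_of_plt_one hM x h
    obtain ⟨U, m, hxU, ⟨e⟩⟩ := M1.exists_freeMod_of_free_stalk ((M1.isCoh_iff_isFP _).1 hM) x
    refine ⟨U, hxU, fun y hy => projective_iff_hasProjectiveDimensionLT_one.1 ?_⟩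
    have : Module.Free (X.presheaf.stalk y) (M.presheaf.stalk y) := M1.free_stalk_of_freeMod hM.1 e hy
    exact (IsProjective.iff_projective (R := X.presheaf.stalk y) _).1
      (Module.Projective.of_free (P := M.presheaf.stalk y))
  | d + 1, M, hM, x, h => by
    obtain ⟨E, p, hE, hp⟩ := hX M hM
    have hS := kerSES p
    obtain ⟨U, hxU, hU⟩ := exists_nhd_plt hX d (kernel p) (isCoh_X₁ hS (isCoh_of_isFinLocFree hE) hM) x
      (((DPerf.shortExact_stF hS x).hasProjectiveDimensionLT_X₃_iff d (projective_stF hE x)).1 h)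
    exact ⟨U, hxU, fun y hy =>
      ((DPerf.shortExact_stF hS y).hasProjectiveDimensionLT_X₃_iff d (projective_stF hE y)).2 (hU y hy)⟩

theorem bd_of_regular [IsNoetherian X] (hX : KRR.HasEnoughLocFree X)
    (hreg : ∀ x : X, IsRegularLocalRing (X.presheaf.stalk x)) {M : X.Modules} (hM : Coh.IsCoh M) : Bd M := by
  have h : ∀ x : X, ∃ (d : ℕ) (U : X.Opens), x ∈ U ∧ ∀ y : X, y ∈ U → HasProjectiveDimensionLT ((stF y).obj M) (d + 1) :=
    fun x => ⟨(IsLocalRing.maximalIdeal (X.presheaf.stalk x)).spanFinrank, exists_nhd_plt hX _ M hM x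
      (haveI := hreg x; RegLoc.hasProjectiveDimensionLT_of_regular rfl _)⟩
  choose d U hxU hU using h
  obtain ⟨s, hs⟩ := isCompact_univ.elim_finite_subcover (fun x => (U x : Set X)) (fun x => (U x).2)
    (fun x _ => Set.mem_iUnion.2 ⟨x, hxU x⟩)
  refine ⟨hM, s.sup d + 1, fun y => ?_⟩
  obtain ⟨x, hx, hy⟩ := Set.mem_iUnion₂.1 (hs (Set.mem_univ y))
  have := hU x y hy
  exact hasProjectiveDimensionLT_of_ge _ (d x + 1) _ (Nat.succ_le_succ (Finset.le_sup hx))

/-- The resolution theorem. -/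
theorem bijective_of_bd [IsLocallyNoetherian X] (hX : KRR.HasEnoughLocFree X) (Q : ObjectProperty X.Modules)
    (hQ : ∀ M, Q M ↔ Bd M) (h : ∀ M, KRR.vbP X M → Q M) :
    Function.Bijective (SGA6.mapSub (𝟭 X.Modules) (KRR.vbP X) Q h) := by
  haveI : (KRR.vbP X).IsClosedUnderIsomorphisms := ⟨fun e hM => M2.isFinLocFree_of_iso e hM⟩
  haveI : Q.IsClosedUnderIsomorphisms := ⟨fun e hM => (hQ _).2 (((hQ _).1 hM).iso e)⟩
  refine Groth.Agent.S3200.result (KRR.vbP X) Q h (fun S hS h₁ h₃ => isFinLocFree_ext hS h₁ h₃)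
    (fun S hS h₁ h₃ => (hQ _).2 (Bd.ext hS ((hQ _).1 h₁) ((hQ _).1 h₃)))
    (fun S hS h₂ h₃ => DPerf.isFinLocFree_kernel S.f S.g S.zero hS h₂ h₃)
    (fun S hS h₂ h₃ => (hQ _).2 (Bd.ker hS ((hQ _).1 h₂) ((hQ _).1 h₃)))
    (fun A B D u v hu hA hB hD => ?_) (fun A hA => ?_)
  · haveI := hu
    exact cover hX u v ((hQ _).1 hA).1 ((hQ _).1 hB).1 ((hQ _).1 hD).1
  · obtain ⟨-, n, hn⟩ := (hQ _).1 hA
    exact ⟨n, fun L hL hex ⟨e⟩ => plt_cycles L hL hex (hn.iso e.symm)⟩

end Groth.Agent.LFResK5
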