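import Groth.Agent.Lib.LFResK5.Push
import Groth.Agent.Lib.CurveCoh17.TensorExact
import Groth.Agent.Lib.TensorMod.Invertible
import Groth.Agent.Lib.TensorMod.QCohTensor
import Groth.Agent.Lib.CMReg18.PullVb
import Groth.Agent.Lib.VeryAmple11.QuasiProjSum
import Groth.Prelude.Def_DCoh4

/-! Functoriality of classes of modules of bounded projective dimension. -/

set_option autoImplicit false
set_option linter.unusedSectionVars false
set_option linter.style.haveILetI false
set_option backward.isDefEq.respectTransparency false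
set_option backward.isDefEq.respectTransparency.types false

universe u v

open CategoryTheory CategoryTheory.Limits AlgebraicGeometry

namespace Groth.Agent.LFResK5

open KFlat.Sch

variable {X Y Z : Scheme.{u}}

theorem clSub_sum_map [IsLocallyNoetherian X] [IsLocallyNoetherian Y] (hX : KRR.HasEnoughLocFree X)
    (hY : KRR.HasEnoughLocFree Y) (G : X.Modules ⥤ Y.Modules) [G.Additive] [PreservesFiniteLimits G]
    [PreservesFiniteColimits G] (hG : ∀ M : X.Modules, Bd M → Bd (G.obj M)) (a : SGA6.Kvb X →+ SGA6.Kvb Y)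
    (ha : ∀ E : X.Modules, FlatMod.IsFinLocFree E → a (KRR.cl X E) = kcl hY (G.obj E)) {M : X.Modules} (hM : Bd M) :
    a (kcl hX M) = kcl hY (G.obj M) := by
  have key : a = (kEquiv hY).symm.toAddMonoidHom.comp
      ((SGA6.mapSub G (BdP X) (BdP Y) hG).comp (kEquiv hX).toAddMonoidHom) := by
    refine addHom_ext fun E hE => ?_
    show a _ = (kEquiv hY).symm (SGA6.mapSub G (BdP X) (BdP Y) hG (kEquiv hX (KRR.cl X E)))
    rw [ha E hE, kEquiv_cl hX hE, mapSub_clSub G _ _ hG (bd_of_isFinLocFree hE)]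
    rfl
  rw [key]
  show (kEquiv hY).symm (SGA6.mapSub G (BdP X) (BdP Y) hG (kEquiv hX (kcl hX M))) = _
  rw [kcl, AddEquiv.apply_symm_apply, mapSub_clSub G _ _ hG hM]
  rfl

theorem kcl_iso [IsLocallyNoetherian X] (hX : KRR.HasEnoughLocFree X) {M N : X.Modules} (e : M ≅ N) (hM : Bd M) :
    kcl hX M = kcl hX N :=
  congrArg (kEquiv hX).symm (clSub_bd_iso e hM)

theorem flat_stalk {E : X.Modules} (hE : FlatMod.IsFinLocFree E) (x : X) :
    Module.Flat (X.presheaf.stalk x) (E.presheaf.stalk x) :=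
  have := ((M1.isFinLocFree_iff E).1 hE).2 x
  inferInstance

theorem preservesFinite_tensorR {G : X.Modules} (hG : FlatMod.IsFinLocFree G) :
    PreservesFiniteLimits (M2.tensorR G) ∧ PreservesFiniteColimits (M2.tensorR G) :=
  ((Functor.exact_tfae (M2.tensorR G)).out 0 3).1 fun _ hS => CurveCoh17.shortExact_tensorR hS G (flat_stalk hG)

theorem bd_tensor [IsLocallyNoetherian X] (hX : KRR.HasEnoughLocFree X) {M G : X.Modules} (hM : Bd M)
    (hG : FlatMod.IsFinLocFree G) : Bd (CohB1.tensorMod M G) := by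
  obtain ⟨_, _⟩ := preservesFinite_tensorR hG
  exact bd_map hX (M2.tensorR G) (fun E hE => bd_of_isFinLocFree (M2.isFinLocFree_tensor hE hG))
    (fun M hM => ⟨M2.isQCoh_tensor hM.1 (isCoh_of_isFinLocFree hG).1,
      M2.isFT_tensor hM.1 (isCoh_of_isFinLocFree hG).1 hM.2 (isCoh_of_isFinLocFree hG).2⟩) hM

/-- The product with the class of a locally free module. -/
theorem kcl_tensor [IsLocallyNoetherian X] (hX : KRR.HasEnoughLocFree X) {K : Type v} [CommRing K]
    (φ : SGA6.Kvb X →+ K) (hb : Function.Bijective φ)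
    (hmul : ∀ E F : X.Modules, FlatMod.IsFinLocFree E → FlatMod.IsFinLocFree F →
      φ (KRR.cl X E) * φ (KRR.cl X F) = φ (KRR.cl X (((DCoh.tensorBi (X := X)).obj E).obj F)))
    {M G : X.Modules} (hM : Bd M) (hG : FlatMod.IsFinLocFree G) :
    φ (kcl hX M) * φ (KRR.cl X G) = φ (kcl hX (CohB1.tensorMod M G)) := by
  obtain ⟨_, _⟩ := preservesFinite_tensorR hG
  let ψ := AddEquiv.ofBijective φ hb
  let a : SGA6.Kvb X →+ SGA6.Kvb X :=
    ψ.symm.toAddMonoidHom.comp ((AddMonoidHom.mulRight (φ (KRR.cl X G))).comp φ)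
  have ha : ∀ c, φ (a c) = φ c * φ (KRR.cl X G) := fun c => ψ.apply_symm_apply _
  rw [← ha, clSub_sum_map hX hX (M2.tensorR G) (fun M hM => bd_tensor hX hM hG) a (fun E hE => ?_) hM]
  · rfl
  · refine hb.1 ?_
    rw [ha, hmul E G hE hG, kcl_of_isFinLocFree hX (show FlatMod.IsFinLocFree ((M2.tensorR G).obj E) from
      M2.isFinLocFree_tensor hE hG)]
    rfl

/-- Classes of modules vanishing on an open die on anything mapping into it. -/
theorem kPull_kcl_eq_zero [IsLocallyNoetherian X] (hX : KRR.HasEnoughLocFree X) (h : Z ⟶ X) (O : X.Opens)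
    (hO : Set.range h ⊆ (O : Set X)) {M : X.Modules} (hM : Bd M) (h0 : IsZero (M.restrict O.ι)) :
    CMReg18.kPull h (kcl hX M) = 0 := by
  obtain ⟨n, L, π, hL⟩ := ((bd_iff_hasLFRes hX M).1 hM).2
  haveI := hL.quasiIso
  rw [kcl_eq_sum hX hM.1 hL, map_sum]
  let R := Scheme.Modules.restrictFunctor O.ι
  let L' := (R.mapHomologicalComplex (ComplexShape.down ℕ)).obj L
  let l : Z ⟶ (O : Scheme.{u}) := IsOpenImmersion.lift O.ι h (by rwa [Scheme.Opens.range_ι])
  have hl : l ≫ O.ι = h := IsOpenImmersion.lift_fac _ _ _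
  have hex : ∀ i, 1 ≤ i → L.ExactAt i := by
    intro i hi
    obtain ⟨k, rfl⟩ : ∃ k, i = k + 1 := ⟨i - 1, by omega⟩
    rw [← quasiIsoAt_iff_exactAt' π (k + 1) (ChainComplex.exactAt_succ_single_obj _ _)]
    infer_instance
  have hex' : ∀ i, 1 ≤ i → L'.ExactAt i := fun i hi => by
    rw [HomologicalComplex.exactAt_iff]
    exact ((HomologicalComplex.exactAt_iff L i).1 (hex i hi)).map R
  have hH : IsZero (L'.homology 0) := by
    refine IsZero.of_iso (IsZero.of_iso h0 (R.mapIso ?_)) ((L.sc 0).mapHomologyIso R)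
    exact asIso (HomologicalComplex.homologyMap π 0) ≪≫
      HomologicalComplex.singleObjHomologySelfIso (ComplexShape.down ℕ) 0 M
  have key := clSub_homology_eq_gen (KRR.vbP (O : Scheme.{u})) (fun h => isFinLocFree_of_isZero h)
    (fun e h => M2.isFinLocFree_of_iso e h) (fun {S} hS h₂ h₃ => DPerf.isFinLocFree_kernel S.f S.g S.zero hS h₂ h₃)
    L' (fun i => M2.isFinLocFree_restrict O.ι (hL.finLocFree i)) hex' (isFinLocFree_of_isZero hH)
    (n := n) (fun i hi => R.map_isZero (hL.isZero i hi))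
  rw [K0Cat.clSub_of_isZero hH (isFinLocFree_of_isZero hH)] at key
  have key' := congrArg (CMReg18.kPull l) key
  rw [map_zero, map_sum] at key'
  refine (Finset.sum_congr rfl fun k _ => ?_).trans key'.symm
  rw [map_zsmul, map_zsmul, CMReg18.kPull_cl h (hL.finLocFree k)]
  congr 1
  rw [show KZero.clSub (KRR.vbP (O : Scheme.{u})) (L'.X k) = KRR.cl _ (L'.X k) from rfl,
    CMReg18.kPull_cl l (show FlatMod.IsFinLocFree (L'.X k) from M2.isFinLocFree_restrict O.ι (hL.finLocFree k))]
  exact clSub_iso_of_zero (KRR.vbP Z) (fun h => isFinLocFree_of_isZero h)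
    ((Scheme.Modules.pullbackCongr hl.symm).app _ ≪≫ (Scheme.Modules.pullbackComp l O.ι).symm.app _ ≪≫
      (Scheme.Modules.pullback l).mapIso ((Scheme.Modules.restrictFunctorIsoPullback O.ι).symm.app _))
    (M2.isFinLocFree_pullback h (hL.finLocFree k))
    (M2.isFinLocFree_pullback l (M2.isFinLocFree_restrict O.ι (hL.finLocFree k)))

end Groth.Agent.LFResK5
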