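import Groth.Agent.Lib.LFResK5.Basic
import Groth.Agent.Lib.K0Cat.Basic

/-! The class in `K(X)` of a module admitting a finite locally free resolution. -/

set_option autoImplicit false
set_option linter.unusedSectionVars false
set_option linter.style.haveILetI false
set_option backward.isDefEq.respectTransparency false
set_option backward.isDefEq.respectTransparency.types false

universe u v

open CategoryTheory CategoryTheory.Limits AlgebraicGeometry

namespace Groth.Agent.LFResK5

open KFlat.Sch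

variable {X : Scheme.{u}}

/-- Coherent modules of bounded projective dimension, as a property. -/
abbrev BdP (X : Scheme.{u}) : ObjectProperty X.Modules := fun M => Bd M

theorem mapSub_clSub {Y : Scheme.{u}} (F : X.Modules ⥤ Y.Modules) [F.Additive] [PreservesFiniteLimits F]
    [PreservesFiniteColimits F] (P : ObjectProperty X.Modules) (Q : ObjectProperty Y.Modules)
    (h : ∀ M, P M → Q (F.obj M)) {M : X.Modules} (hM : P M) :
    SGA6.mapSub F P Q h (KZero.clSub P M) = KZero.clSub Q (F.obj M) := by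
  rw [KZero.clSub, dif_pos hM, KZero.clSub, dif_pos (h M hM)]
  simp [SGA6.mapSub, FreeAbelianGroup.map_of_apply, SGA6.objMap]

theorem isFinLocFree_zero {M : X.Modules} (h : IsZero M) : FlatMod.IsFinLocFree M :=
  isFinLocFree_of_isZero h

theorem bd_of_isZero [IsLocallyNoetherian X] {M : X.Modules} (h : IsZero M) : Bd M :=
  bd_of_isFinLocFree (isFinLocFree_of_isZero h)

theorem clSub_iso_of_zero (Q : ObjectProperty X.Modules) (h0 : ∀ {M : X.Modules}, IsZero M → Q M)
    {M N : X.Modules} (e : M ≅ N) (hM : Q M) (hN : Q N) :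
    KZero.clSub Q M = KZero.clSub Q N := by
  have hz : IsZero (cokernel e.hom) := isZero_cokernel_of_epi e.hom
  have h := K0Cat.clSub_ses (P := Q) (ShortComplex.mk e.hom (cokernel.π e.hom) (cokernel.condition _))
    { exact := ShortComplex.exact_cokernel _ } hM hN (h0 hz)
  rw [K0Cat.clSub_of_isZero hz (h0 hz), add_zero] at h
  exact h.symm

theorem clSub_bd_iso [IsLocallyNoetherian X] {M N : X.Modules} (e : M ≅ N) (hM : Bd M) :
    KZero.clSub (BdP X) M = KZero.clSub (BdP X) N :=
  clSub_iso_of_zero (BdP X) bd_of_isZero e hM (hM.iso e)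

/-- A finite exact complex with terms in a class stable under kernels: the Euler class. -/
theorem clSub_homology_eq_gen (Q : ObjectProperty X.Modules) (hz0 : ∀ {M : X.Modules}, IsZero M → Q M)
    (hiso : ∀ {M N : X.Modules}, (M ≅ N) → Q M → Q N)
    (hker : ∀ {S : ShortComplex X.Modules}, S.ShortExact → Q S.X₂ → Q S.X₃ → Q S.X₁)
    (L : ChainComplex X.Modules ℕ) (hL : ∀ i, Q (L.X i))
    (hex : ∀ i, 1 ≤ i → L.ExactAt i) (hH : Q (L.homology 0)) {n : ℕ} (hz : ∀ i, n < i → IsZero (L.X i)) :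
    KZero.clSub Q (L.homology 0) =
      ∑ k ∈ Finset.range (n + 1), (-1 : ℤ) ^ k • KZero.clSub Q (L.X k) := by
  obtain ⟨B, S, T, hS, hT, e₁, e₂, e₃, f₁, f₂, f₃⟩ := zeroSES L
  haveI : IsIso (L.iCycles 0) := L.isIso_iCycles 0 0 (by simp) (L.shape _ _ (by simp))
  have h0 : Q (L.cycles 0) := hiso (asIso (L.iCycles 0)).symm (hL 0)
  have hB : Q B := f₁ ▸ hker hT (by rw [f₂]; exact h0) (by rw [f₃]; exact hH)
  have hZ : ∀ k, Q (L.cycles (k + 1)) := by
    intro k
    induction k with
    | zero =>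
      rw [zero_add, ← e₁]
      exact hker hS (by rw [e₂]; exact hL 1) (by rw [e₃]; exact hB)
    | succ k ih =>
      obtain ⟨U, hU, g₁, g₂, g₃⟩ := cyclesSES L (k + 1) (hex _ (by omega))
      rw [← g₁]
      exact hker hU (by rw [g₂]; exact hL _) (by rw [g₃]; exact ih)
  have key : ∀ m, ∑ k ∈ Finset.range (m + 2), (-1 : ℤ) ^ k • KZero.clSub Q (L.X k) =
      KZero.clSub Q (L.homology 0) + (-1 : ℤ) ^ (m + 1) • KZero.clSub Q (L.cycles (m + 1)) := by
    intro m
    induction m with
    | zero =>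
      have a₁ := K0Cat.clSub_ses (P := Q) S hS (by rw [e₁]; exact hZ 0) (by rw [e₂]; exact hL 1)
        (by rw [e₃]; exact hB)
      have a₂ := K0Cat.clSub_ses (P := Q) T hT (by rw [f₁]; exact hB) (by rw [f₂]; exact h0) (by rw [f₃]; exact hH)
      rw [e₁, e₂, e₃] at a₁
      rw [f₁, f₂, f₃, ← clSub_iso_of_zero Q hz0 (asIso (L.iCycles 0)).symm (hL 0) h0] at a₂
      simp [Finset.sum_range_succ, a₁, a₂]
      abel
    | succ m ih =>
      obtain ⟨U, hU, g₁, g₂, g₃⟩ := cyclesSES L (m + 1) (hex _ (by omega))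
      have a := K0Cat.clSub_ses (P := Q) U hU (by rw [g₁]; exact hZ _) (by rw [g₂]; exact hL _)
        (by rw [g₃]; exact hZ m)
      rw [g₁, g₂, g₃] at a
      rw [Finset.sum_range_succ, ih, a, pow_succ (-1 : ℤ) (m + 1), smul_add]
      simp [mul_smul, neg_smul]
      abel
  have hsum : ∑ k ∈ Finset.range (n + 2), (-1 : ℤ) ^ k • KZero.clSub Q (L.X k) =
      ∑ k ∈ Finset.range (n + 1), (-1 : ℤ) ^ k • KZero.clSub Q (L.X k) := by
    rw [Finset.sum_range_succ _ (n + 1), K0Cat.clSub_of_isZero (hz _ (by omega)) (hL _), smul_zero, add_zero]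
  rw [← hsum, key n, K0Cat.clSub_of_isZero (IsZero.of_mono (L.iCycles (n + 1)) (hz _ (by omega))) (hZ n),
    smul_zero, add_zero]

/-- A finite exact complex of modules of bounded projective dimension: the Euler class. -/
theorem clSub_homology_eq [IsLocallyNoetherian X] (L : ChainComplex X.Modules ℕ) (hL : ∀ i, Bd (L.X i))
    (hex : ∀ i, 1 ≤ i → L.ExactAt i) (hH : Bd (L.homology 0)) {n : ℕ} (hz : ∀ i, n < i → IsZero (L.X i)) :
    KZero.clSub (BdP X) (L.homology 0) =
      ∑ k ∈ Finset.range (n + 1), (-1 : ℤ) ^ k • KZero.clSub (BdP X) (L.X k) :=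
  clSub_homology_eq_gen (BdP X) bd_of_isZero (fun e h => Bd.iso e h) (fun h => Bd.ker h) L hL hex hH hz

/-- The same for a resolution. -/
theorem clSub_eq_of_resolution [IsLocallyNoetherian X] {F : X.Modules} (L : ChainComplex X.Modules ℕ)
    (π : L ⟶ (ChainComplex.single₀ X.Modules).obj F) [QuasiIso π] (hL : ∀ i, Bd (L.X i)) (hF : Bd F) {n : ℕ}
    (hz : ∀ i, n < i → IsZero (L.X i)) :
    KZero.clSub (BdP X) F = ∑ k ∈ Finset.range (n + 1), (-1 : ℤ) ^ k • KZero.clSub (BdP X) (L.X k) := by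
  let e : L.homology 0 ≅ F := asIso (HomologicalComplex.homologyMap π 0) ≪≫
    HomologicalComplex.singleObjHomologySelfIso (ComplexShape.down ℕ) 0 F
  rw [← clSub_bd_iso e (hF.iso e.symm)]
  refine clSub_homology_eq L hL (fun i hi => ?_) (hF.iso e.symm) hz
  obtain ⟨k, rfl⟩ : ∃ k, i = k + 1 := ⟨i - 1, by omega⟩
  rw [← quasiIsoAt_iff_exactAt' π (k + 1) (ChainComplex.exactAt_succ_single_obj _ _)]
  infer_instance

section K

variable [IsLocallyNoetherian X] (hX : KRR.HasEnoughLocFree X)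

/-- `K(X) ≃ K₀` of modules of bounded projective dimension. -/
noncomputable def kEquiv : SGA6.Kvb X ≃+ KZero.K0sub (BdP X) :=
  AddEquiv.ofBijective _ (bijective_of_bd hX (BdP X) (fun _ => Iff.rfl) fun _ h => bd_of_isFinLocFree h)

theorem kEquiv_cl {E : X.Modules} (hE : FlatMod.IsFinLocFree E) :
    kEquiv hX (KRR.cl X E) = KZero.clSub (BdP X) E :=
  mapSub_clSub (𝟭 X.Modules) (KRR.vbP X) (BdP X) (fun _ h => bd_of_isFinLocFree h) hE

/-- The class in `K(X)` of a module of bounded projective dimension. -/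
noncomputable def kcl (M : X.Modules) : SGA6.Kvb X := (kEquiv hX).symm (KZero.clSub (BdP X) M)

theorem kcl_of_isFinLocFree {E : X.Modules} (hE : FlatMod.IsFinLocFree E) : kcl hX E = KRR.cl X E :=
  (kEquiv hX).symm_apply_eq.2 (kEquiv_cl hX hE).symm

theorem kcl_eq_sum {F : X.Modules} (hF : Coh.IsCoh F) {n : ℕ} {L : ChainComplex X.Modules ℕ}
    {π : L ⟶ (ChainComplex.single₀ X.Modules).obj F} (h : KRR.IsLFRes F n L π) :
    kcl hX F = ∑ k ∈ Finset.range (n + 1), (-1 : ℤ) ^ k • KRR.cl X (L.X k) := by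
  haveI := h.quasiIso
  rw [kcl, clSub_eq_of_resolution L π (fun i => bd_of_isFinLocFree (h.finLocFree i))
    (bd_of_hasLFRes hF ⟨n, L, π, h⟩) h.isZero, map_sum]
  refine Finset.sum_congr rfl fun k _ => ?_
  rw [map_zsmul, (kEquiv hX).symm_apply_eq.2 (kEquiv_cl hX (h.finLocFree k)).symm]

end K

end Groth.Agent.LFResK5
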