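import Groth.Agent.Lib.LFResK5.Class
import Groth.Agent.Lib.RegImm26.Noeth
import Groth.Agent.Lib.CohFound.ClosedImmPush
import Groth.Agent.Lib.EnriquesSeveri11.Proper
import Groth.Agent.Lib.RelPCS8.ClosedPush
import Groth.Agent.Lib.RegLoc.PD
import Groth.Prelude.Def_Mor2
import Mathlib.RingTheory.Regular.Flat

/-! Direct images along regular closed immersions have bounded projective dimension. -/

set_option autoImplicit false
set_option linter.unusedSectionVars false
set_option linter.style.haveILetI false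
set_option backward.isDefEq.respectTransparency false
set_option backward.isDefEq.respectTransparency.types false

universe u v

open CategoryTheory CategoryTheory.Limits AlgebraicGeometry RingTheory.Sequence
open scoped Pointwise

namespace Groth.Agent.LFResK5

open KFlat.Sch RegLoc

theorem pd_quot_ofList {R : Type u} [CommRing R] :
    ∀ (rs : List R) (M : Type u) [AddCommGroup M] [Module R M] (n : ℕ), PD R M n → IsWeaklyRegular M rs →
      PD R (M ⧸ Ideal.ofList rs • (⊤ : Submodule R M)) (n + rs.length)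
  | [], M, _, _, n, h, _ =>
    h.congr (Submodule.quotEquivOfEqBot (Ideal.ofList ([] : List R) • (⊤ : Submodule R M)) (by simp)).symm
  | r :: rs, M, _, _, n, h, hreg => by
    obtain ⟨h1, h2⟩ := (isWeaklyRegular_cons_iff M r rs).1 hreg
    have h3 : PD R (QuotSMulTop r M) (n + 1) :=
      PD.quotient (LinearMap.lsmul R M r) (Submodule.mkQ (r • (⊤ : Submodule R M))) h1
        (Submodule.mkQ_surjective _) (LinearMap.exact_iff.2 (by
          rw [Submodule.ker_mkQ]
          rw [Submodule.pointwise_smul_def, Submodule.map_top]; rfl)) h (h.mono (Nat.le_succ n))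
    have h4 := (pd_quot_ofList rs _ (n + 1) h3 h2).congr (Submodule.quotOfListConsSMulTopEquivQuotSMulTopInner M r rs).symm
    rw [List.length_cons]
    exact h4.mono (by omega)

theorem pd_pi {R : Type u} [CommRing R] {B : Type u} [AddCommGroup B] [Module R B] {n : ℕ} (h : PD R B n) :
    ∀ m : ℕ, PD R (Fin m → B) n
  | 0 => PD.of_projective n
  | m + 1 => by
    let e := Fin.consLinearEquiv R fun _ : Fin (m + 1) => B
    refine PD.congr ?_ e
    let S : ShortComplex (ModuleCat.{u} R) := ModuleCat.shortComplexOfCompEqZero (LinearMap.inl R B (Fin m → B))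
      (LinearMap.snd R B (Fin m → B)) Function.Exact.inl_snd.linearMap_comp_eq_zero
    have hS : S.ShortExact := ModuleCat.shortComplex_shortExact S
      Function.Exact.inl_snd LinearMap.inl_injective Prod.snd_surjective
    exact hS.hasProjectiveDimensionLT_X₂ (n + 1) h (pd_pi h m)

/-- Modules free over a quotient by a regular sequence. -/
theorem pd_of_free_quot {A B : Type u} [CommRing A] [CommRing B] (φ : A →+* B) (hφ : Function.Surjective φ)
    (rs : List A) (hreg : IsWeaklyRegular A rs) (hker : RingHom.ker φ = Ideal.ofList rs)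
    {M : Type u} [AddCommGroup M] [Module A M] [Module B M] [Module.Free B M] [Module.Finite B M]
    (hc : ∀ (a : A) (m : M), a • m = φ a • m) : PD A M rs.length := by
  letI : Algebra A B := φ.toAlgebra
  haveI : IsScalarTower A B M := ⟨fun a b m => by rw [hc a (b • m), ← mul_smul]; rfl⟩
  have h1 : PD A B rs.length := by
    have h := pd_quot_ofList rs A 0 (PD.of_projective 0) hreg
    rw [Nat.zero_add] at h
    refine h.congr ((Submodule.quotEquivOfEq _ _ ?_).trans
      ((Algebra.linearMap A B).quotKerEquivOfSurjective hφ))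
    ext a
    have e : (Algebra.linearMap A B).ker = (Ideal.ofList rs : Submodule A A) := by
      rw [← hker]; rfl
    rw [e, smul_eq_mul, Ideal.mul_top]
  obtain ⟨m, ⟨b⟩⟩ : ∃ m, Nonempty (M ≃ₗ[B] (Fin m → B)) := ⟨_, ⟨((Module.Free.chooseBasis B M).reindex (Fintype.equivFin _)).equivFun⟩⟩
  exact (pd_pi h1 m).congr (b.restrictScalars A).symm

variable {X Y : Scheme.{u}}

theorem exists_plt_push [IsNoetherian X] [IsNoetherian Y] (f : X ⟶ Y) (hf : Mor2.IsRegularClosedImmersion f)
    {F : X.Modules} (hF : FlatMod.IsFinLocFree F) : ∃ n, PLT ((Scheme.Modules.pushforward f).obj F) n := by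
  haveI := hf.1
  choose U hU hz rs hreg hker using hf.2
  obtain ⟨s, hs⟩ := isCompact_univ.elim_finite_subcover (fun z => f ⁻¹' (U z : Set Y))
    (fun z => (U z).2.preimage f.continuous) (fun z _ => Set.mem_iUnion.2 ⟨z, hz z⟩)
  refine ⟨s.sup (fun z => (rs z).length) + 1, fun y => ?_⟩
  by_cases hy : y ∈ Set.range f
  · obtain ⟨x, rfl⟩ := hy
    obtain ⟨z, hzs, hxU⟩ := Set.mem_iUnion₂.1 (hs (Set.mem_univ x))
    have hxU : f x ∈ U z := hxU
    let A := Y.presheaf.stalk (f x)
    let B := X.presheaf.stalk x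
    letI : Algebra Γ(Y, U z) A := (Y.presheaf.germ (U z) (f x) hxU).hom.toAlgebra
    haveI : IsLocalization.AtPrime A ((hU z).primeIdealOf ⟨f x, hxU⟩).asIdeal :=
      (hU z).isLocalization_stalk ⟨f x, hxU⟩
    have hr : IsWeaklyRegular A ((rs z).map (algebraMap Γ(Y, U z) A)) :=
      (hreg z).toIsWeaklyRegular.of_isLocalization A ((hU z).primeIdealOf ⟨f x, hxU⟩).asIdeal.primeCompl
    have hk : RingHom.ker (f.stalkMap x).hom = Ideal.ofList ((rs z).map (algebraMap Γ(Y, U z) A)) := by
      rw [RegImm26.ker_stalkMap_eq f x (hU z) hxU, ← Scheme.Hom.ker_apply f ⟨U z, hU z⟩, hker z, Ideal.map_ofList]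
      rfl
    letI : Module A (F.presheaf.stalk x) := Module.compHom _ (f.stalkMap x).hom
    haveI : Module.Free B (F.presheaf.stalk x) := ((M1.isFinLocFree_iff F).1 hF).2 x
    haveI : Module.Finite B (F.presheaf.stalk x) :=
      M1.finite_stalk (isCoh_of_isFinLocFree hF).1 (isCoh_of_isFinLocFree hF).2 x
    have h := pd_of_free_quot (A := A) (B := B) (f.stalkMap x).hom (f.stalkMap_surjective x) _ hr hk
      (M := F.presheaf.stalk x) (fun a m => rfl)
    rw [List.length_map] at h
    let g := AddEquiv.ofBijective (CohFound.pushStalk f F x).hom (CohFound.bijective_pushStalk f F x)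
    let gl : ((Scheme.Modules.pushforward f).obj F).presheaf.stalk (f x) ≃ₗ[A] F.presheaf.stalk x :=
      { g with map_smul' := fun c a => CohFound.pushStalk_smul f F x c a }
    have h' := (h.mono (Finset.le_sup (f := fun z => (rs z).length) hzs)).congr gl.symm
    exact h'
  · haveI : Subsingleton (((Scheme.Modules.pushforward f).obj F).presheaf.stalk y) :=
      ⟨fun a b => (M1.eq_zero_stalk_push f F hy a).trans (M1.eq_zero_stalk_push f F hy b).symm⟩
    haveI : Subsingleton ((stF y).obj ((Scheme.Modules.pushforward f).obj F)) := by assumption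
    have := (hasProjectiveDimensionLT_zero_iff_isZero _).2
      (ModuleCat.isZero_of_subsingleton ((stF y).obj ((Scheme.Modules.pushforward f).obj F)))
    exact hasProjectiveDimensionLT_of_ge _ 0 _ (Nat.zero_le _)

theorem bd_push_of_finLocFree [IsNoetherian X] [IsNoetherian Y] (f : X ⟶ Y) (hf : Mor2.IsRegularClosedImmersion f)
    {F : X.Modules} (hF : FlatMod.IsFinLocFree F) : Bd ((Scheme.Modules.pushforward f).obj F) :=
  haveI := hf.1
  ⟨CohFound.isCoh_push_closedImm f (isCoh_of_isFinLocFree hF), exists_plt_push f hf hF⟩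

/-- An exact functor sending locally free modules to modules of bounded projective dimension does so on all such. -/
theorem bd_map [IsLocallyNoetherian X] [IsLocallyNoetherian Y] (hX : KRR.HasEnoughLocFree X) (G : X.Modules ⥤ Y.Modules)
    [G.Additive] [PreservesFiniteLimits G] [PreservesFiniteColimits G]
    (hG : ∀ E : X.Modules, FlatMod.IsFinLocFree E → Bd (G.obj E))
    (hC : ∀ M : X.Modules, Coh.IsCoh M → Coh.IsCoh (G.obj M)) {M : X.Modules} (hM : Bd M) : Bd (G.obj M) := by
  obtain ⟨hMc, n, hn⟩ := hM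
  induction n generalizing M with
  | zero => exact hG M (isFinLocFree_of_plt_one hMc (hn.mono (Nat.zero_le 1)))
  | succ n ih =>
    rcases n with _ | n
    · exact hG M (isFinLocFree_of_plt_one hMc hn)
    obtain ⟨E, p, hE, hp⟩ := hX M hMc
    have hS := kerSES p
    have hK : Bd (G.obj (kernel p)) := ih (isCoh_X₁ hS (isCoh_of_isFinLocFree hE) hMc)
      (PLT.X₁ hS (plt_of_isFinLocFree hE (by omega)) hn)
    obtain ⟨-, a, ha⟩ := hK
    obtain ⟨-, b, hb⟩ := hG E hE
    exact ⟨hC M hMc, max a b + 1,
      PLT.X₃ (hS.map_of_exact G) (ha.mono (le_max_left a b)) (hb.mono ((le_max_right a b).trans (Nat.le_succ _)))⟩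

/-- The push-forward on `K` along a regular closed immersion. -/
noncomputable def pushK [IsNoetherian X] [IsNoetherian Y] (f : X ⟶ Y) [IsClosedImmersion f]
    (hf : Mor2.IsRegularClosedImmersion f) (hY : KRR.HasEnoughLocFree Y) : SGA6.Kvb X →+ SGA6.Kvb Y :=
  (kEquiv hY).symm.toAddMonoidHom.comp
    (SGA6.mapSub (Scheme.Modules.pushforward f) (KRR.vbP X) (BdP Y) fun _ h => bd_push_of_finLocFree f hf h)

theorem pushK_cl [IsNoetherian X] [IsNoetherian Y] (f : X ⟶ Y) [IsClosedImmersion f]
    (hf : Mor2.IsRegularClosedImmersion f) (hY : KRR.HasEnoughLocFree Y) {F : X.Modules} (hF : FlatMod.IsFinLocFree F) :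
    pushK f hf hY (KRR.cl X F) = kcl hY ((Scheme.Modules.pushforward f).obj F) := by
  rw [kcl]
  exact congrArg (kEquiv hY).symm (mapSub_clSub _ _ _ (fun _ h => bd_push_of_finLocFree f hf h) hF)

variable {KX KY : Type v} [CommRing KX] [CommRing KY]

theorem addHom_ext {G : Type*} [AddCommGroup G] {Z : Scheme.{u}} {a b : SGA6.Kvb Z →+ G}
    (h : ∀ F : Z.Modules, FlatMod.IsFinLocFree F → a (KRR.cl Z F) = b (KRR.cl Z F)) : a = b := by
  refine AddMonoidHom.ext fun x => ?_
  induction x using K0Cat.clSub_induction with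
  | h0 => simp
  | hcl F hF => exact h F hF
  | hneg c hc => simp [hc]
  | hadd c d hc hd => simp [hc, hd]

theorem isPushCl_iff [IsNoetherian X] [IsNoetherian Y] (f : X ⟶ Y) [IsClosedImmersion f]
    (hf : Mor2.IsRegularClosedImmersion f) (hY : KRR.HasEnoughLocFree Y) (φX : SGA6.Kvb X →+ KX)
    (φY : SGA6.Kvb Y →+ KY) (h : KX →+ KY) :
    KRR.IsPushCl f φX φY h ↔ ∀ F : X.Modules, FlatMod.IsFinLocFree F →
      h (φX (KRR.cl X F)) = φY (kcl hY ((Scheme.Modules.pushforward f).obj F)) := by
  refine ⟨fun H F hF => ?_, fun H F hF n L π hL => ?_⟩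
  · have hb := bd_push_of_finLocFree f hf hF
    obtain ⟨n, L, π, hL⟩ := ((bd_iff_hasLFRes hY _).1 hb).2
    rw [H F hF n L π hL, kcl_eq_sum hY hb.1 hL, map_sum]
    simp only [map_zsmul]
  · rw [H F hF, kcl_eq_sum hY (bd_push_of_finLocFree f hf hF).1 hL, map_sum]
    simp only [map_zsmul]

end Groth.Agent.LFResK5
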